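import Mathlib
import Groth.Agent.CILib.KoszulDescent
import Groth.Agent.QRegDescLib.Basic
import Groth.Agent.RelDivLib.FlatSeq
import Groth.Agent.RelDivLib.H1Quasi

import Groth.Prelude.Def_RegImm

/-!
# Faithfully flat descent of Koszul regular, H₁-regular and quasi-regular ideals
-/

set_option autoImplicit false
set_option linter.style.haveILetI false
set_option backward.isDefEq.respectTransparency false

universe u

open scoped TensorProduct Matrix

noncomputable section

namespace Groth.Agent.RegKindDescLib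

variable {R : Type u} [CommRing R]

/-- The trivial relations. -/
abbrev triv {c : ℕ} (f : Fin c → R) : Submodule R (Fin c → R) :=
  Submodule.span R {v : Fin c → R | ∃ i j : Fin c, v = Pi.single i (f j) - Pi.single j (f i)}

theorem range_get (rs : List R) : Ideal.span (Set.range rs.get) = Ideal.ofList rs := by
  rw [← Groth.Agent.RegIdealLib.ofList_ofFn, List.ofFn_get]

/-- Sequences generating the unit ideal are H₁-regular. -/
theorem isH1Regular_of_span_eq_top {c : ℕ} {f : Fin c → R} (h : Ideal.span (Set.range f) = ⊤) :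
    CAlgX.IsH1Regular f := by
  classical
  intro a ha
  obtain ⟨b, hb⟩ := Ideal.mem_span_range_iff_exists_fun.1 (h ▸ Submodule.mem_top : (1 : R) ∈ Ideal.span (Set.range f))
  have hab : a = ∑ i, ∑ j, (a i * b j) • (Pi.single i (f j) - Pi.single j (f i)) := by
    funext k
    simp only [Finset.sum_apply, Pi.smul_apply, Pi.sub_apply, smul_eq_mul, mul_sub, Finset.sum_sub_distrib,
      Pi.single_apply, mul_ite, mul_zero, Finset.sum_ite_eq, Finset.mem_univ, if_true]
    rw [Finset.sum_comm]
    simp only [Finset.sum_ite_eq, Finset.mem_univ, if_true]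
    have h2 : ∑ i, a i * b k * f i = 0 := by
      rw [show (∑ i, a i * b k * f i) = b k * ∑ i, a i * f i by
        rw [Finset.mul_sum]; exact Finset.sum_congr rfl fun i _ => by ring, ha, mul_zero]
    have h1 : ∑ j, a k * b j * f j = a k := by
      simp only [mul_assoc, ← Finset.mul_sum]
      rw [hb, mul_one]
    rw [h1, h2, sub_zero]
  rw [hab]
  exact Submodule.sum_mem _ fun i _ => Submodule.sum_mem _ fun j _ =>
    Submodule.smul_mem _ _ (Submodule.subset_span ⟨i, j, rfl⟩)

/-- H₁-regularity is invariant under invertible changes of generators. -/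
theorem isH1Regular_mulVec {c : ℕ} {f f' : Fin c → R} (M N : Matrix (Fin c) (Fin c) R) (hMN : M * N = 1)
    (hf' : f' = M *ᵥ f) (hN : f = N *ᵥ f') (hf : CAlgX.IsH1Regular f) : CAlgX.IsH1Regular f' := by
  classical
  intro a ha
  have hb : ∑ j, (a ᵥ* M) j * f j = 0 := by
    have : dotProduct (a ᵥ* M) f = 0 := by
      rw [← Matrix.dotProduct_mulVec, ← hf']
      exact ha
    exact this
  have key : (triv f).map (Matrix.vecMulLinear N) ≤ triv f' := by
    rw [Submodule.map_span_le]
    rintro _ ⟨i, j, rfl⟩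
    have e : Matrix.vecMulLinear N (Pi.single i (f j) - Pi.single j (f i)) =
        ∑ k, ∑ l, (N j l * N i k) • (Pi.single k (f' l) - Pi.single l (f' k)) := by
      funext m
      simp only [map_sub, Matrix.vecMulLinear_apply, Matrix.single_vecMul, Pi.sub_apply, Pi.smul_apply,
        Finset.sum_apply, smul_eq_mul, mul_sub, Finset.sum_sub_distrib, Pi.single_apply, mul_ite, mul_zero]
      rw [hN]
      simp only [Matrix.mulVec, dotProduct]
      rw [Finset.sum_comm (γ := Fin c)]
      simp only [Finset.sum_ite_eq, Finset.mem_univ, if_true, Finset.sum_mul, Matrix.row_apply]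
      congr 1
      · exact Finset.sum_congr rfl fun l _ => by ring
      · exact Finset.sum_congr rfl fun l _ => by ring
    rw [e]
    exact Submodule.sum_mem _ fun k _ => Submodule.sum_mem _ fun l _ =>
      Submodule.smul_mem _ _ (Submodule.subset_span ⟨k, l, rfl⟩)
  have h1 := key (Submodule.mem_map_of_mem (hf _ hb))
  rwa [Matrix.vecMulLinear_apply, Matrix.vecMul_vecMul, hMN, Matrix.vecMul_one] at h1

/-- The linear coefficients of a quasi-regular sequence. -/
theorem coeff_mem_of_isQuasiRegular {c : ℕ} {f : Fin c → R} (hf : CAlgX.IsQuasiRegular f) (a : Fin c → R)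
    (h : ∑ i, a i * f i ∈ Ideal.span (Set.range f) ^ 2) (i : Fin c) : a i ∈ Ideal.span (Set.range f) := by
  classical
  have h1 := hf 1 (∑ j, MvPolynomial.C (a j) * MvPolynomial.X j)
    (MvPolynomial.IsHomogeneous.sum _ _ _ fun j _ => MvPolynomial.isHomogeneous_C_mul_X (a j) j)
    (by simpa using h) (Finsupp.single i 1)
  simpa [MvPolynomial.coeff_sum, MvPolynomial.coeff_X, Finsupp.single_left_inj] using h1

/-- In a local ring two quasi-regular generating sequences of a proper ideal differ by an invertible matrix. -/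
theorem exists_matrix [IsLocalRing R] {c c' : ℕ} {f : Fin c → R} {f' : Fin c' → R}
    (hf : CAlgX.IsQuasiRegular f) (hf' : CAlgX.IsQuasiRegular f')
    (he : Ideal.span (Set.range f) = Ideal.span (Set.range f')) (hne : Ideal.span (Set.range f) ≠ ⊤) :
    ∃ _ : c' = c, ∃ M N : Matrix (Fin c) (Fin c') R, M * N.transpose = 1 ∧ f = M *ᵥ f' ∧ f' = N.transpose *ᵥ f := by
  classical
  choose M hM using fun i => Ideal.mem_span_range_iff_exists_fun.1 (he ▸ Ideal.subset_span ⟨i, rfl⟩ : f i ∈ Ideal.span (Set.range f'))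
  choose N hN using fun i => Ideal.mem_span_range_iff_exists_fun.1 (he.symm ▸ Ideal.subset_span ⟨i, rfl⟩ : f' i ∈ Ideal.span (Set.range f))
  let M₀ : Matrix (Fin c) (Fin c') R := Matrix.of M
  let N₀ : Matrix (Fin c') (Fin c) R := Matrix.of N
  have hM' : f = M₀ *ᵥ f' := funext fun i => (hM i).symm
  have hN' : f' = N₀ *ᵥ f := funext fun i => (hN i).symm
  let J := Ideal.span (Set.range f)
  have hJm : J ≤ IsLocalRing.maximalIdeal R := IsLocalRing.le_maximalIdeal hne
  let ρ := IsLocalRing.residue R
  have one : ∀ {n m : ℕ} (g : Fin n → R) (P : Matrix (Fin n) (Fin m) R) (Q : Matrix (Fin m) (Fin n) R),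
      CAlgX.IsQuasiRegular g → Ideal.span (Set.range g) = J → g = (P * Q) *ᵥ g → P.map ρ * Q.map ρ = 1 := by
    intro n m g P Q hg hgJ hPQ
    rw [← Matrix.map_mul]
    ext i j
    have h0 : ∑ k, ((P * Q) i k - (1 : Matrix (Fin n) (Fin n) R) i k) * g k = 0 := by
      simp only [sub_mul, Finset.sum_sub_distrib, Matrix.one_apply, ite_mul, one_mul, zero_mul, Finset.sum_ite_eq,
        Finset.mem_univ, if_true]
      exact sub_eq_zero.2 (congrFun hPQ i).symm
    have h1 := coeff_mem_of_isQuasiRegular hg (fun k => (P * Q) i k - (1 : Matrix (Fin n) (Fin n) R) i k)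
      (h0 ▸ zero_mem _) j
    rw [hgJ] at h1
    have h2 : ρ ((P * Q) i j - (1 : Matrix (Fin n) (Fin n) R) i j) = 0 :=
      (IsLocalRing.residue_eq_zero_iff _).2 (hJm h1)
    rw [map_sub, sub_eq_zero] at h2
    rw [Matrix.map_apply, h2, Matrix.one_apply, Matrix.one_apply]
    split_ifs <;> simp
  have h12 := one f M₀ N₀ hf rfl (by rw [← Matrix.mulVec_mulVec, ← hN', ← hM'])
  have h21 := one f' N₀ M₀ hf' he.symm (by rw [← Matrix.mulVec_mulVec, ← hM', ← hN'])
  have hc : c' = c := by
    have := (Matrix.toLin'OfInv h21 h12).finrank_eq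
    simpa using this
  subst hc
  have hu : IsUnit M₀ := by
    rw [Matrix.isUnit_iff_isUnit_det]
    refine isUnit_of_map_unit ρ _ ?_
    rw [RingHom.map_det]
    exact (Matrix.isUnit_iff_isUnit_det _).1 (IsUnit.of_mul_eq_one _ h12)
  have hi : M₀ * M₀⁻¹ = 1 := Matrix.mul_nonsing_inv _ ((Matrix.isUnit_iff_isUnit_det _).1 hu)
  have hi' : M₀⁻¹ * M₀ = 1 := Matrix.nonsing_inv_mul _ ((Matrix.isUnit_iff_isUnit_det _).1 hu)
  refine ⟨rfl, M₀, (M₀⁻¹).transpose, by rw [Matrix.transpose_transpose, hi], hM', ?_⟩
  rw [Matrix.transpose_transpose, hM', Matrix.mulVec_mulVec, hi', Matrix.one_mulVec]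

/-- H₁-regularity only depends on the ideal, for quasi-regular sequences in a local ring. -/
theorem isH1Regular_of_span_eq [IsLocalRing R] {c c' : ℕ} {f : Fin c → R} {f' : Fin c' → R}
    (hf : CAlgX.IsQuasiRegular f) (hf' : CAlgX.IsH1Regular f')
    (he : Ideal.span (Set.range f) = Ideal.span (Set.range f')) : CAlgX.IsH1Regular f := by
  by_cases hne : Ideal.span (Set.range f) = ⊤
  · exact isH1Regular_of_span_eq_top hne
  obtain ⟨rfl, M, N, hMN, hM, hN⟩ :=
    exists_matrix hf (Groth.Agent.RelDivLib.isQuasiRegular_of_isH1Regular hf') he hne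
  exact isH1Regular_mulVec M N.transpose hMN hM hN hf'

/-- H₁-regularity is local. -/
theorem isH1Regular_of_localization {c : ℕ} {f : Fin c → R}
    (h : ∀ (m : Ideal R) [m.IsMaximal], CAlgX.IsH1Regular fun i => algebraMap R (Localization.AtPrime m) (f i)) :
    CAlgX.IsH1Regular f := by
  classical
  intro a ha
  by_contra hna
  have hne : (triv f).colon {a} ≠ ⊤ := fun ht => hna (by
    simpa using Submodule.mem_colon_singleton.1 (ht ▸ Submodule.mem_top : (1 : R) ∈ (triv f).colon {a}))
  obtain ⟨m, hm, hle⟩ := Ideal.exists_le_maximal _ hne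
  have h1 := h m (fun i => algebraMap R (Localization.AtPrime m) (a i))
    (by simp only [← map_mul, ← map_sum, ha, map_zero])
  let L := Localization.AtPrime m
  have key : ∀ x ∈ triv (fun i => algebraMap R L (f i)),
      ∃ s ∈ m.primeCompl, ∃ t ∈ triv f, ∀ i, algebraMap R L s * x i = algebraMap R L (t i) := by
    intro x hx
    induction hx using Submodule.span_induction with
    | mem y hy =>
      obtain ⟨i, j, rfl⟩ := hy
      refine ⟨1, one_mem _, _, Submodule.subset_span ⟨i, j, rfl⟩, fun k => ?_⟩
      simp only [map_one, one_mul, Pi.sub_apply, map_sub, Pi.single_apply, apply_ite (algebraMap R L), map_zero]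
    | zero => exact ⟨1, one_mem _, 0, zero_mem _, fun k => by simp⟩
    | add y z _ _ hy hz =>
      obtain ⟨s, hs, t, ht, hst⟩ := hy
      obtain ⟨s', hs', t', ht', hst'⟩ := hz
      refine ⟨s * s', mul_mem hs hs', s' • t + s • t',
        add_mem (Submodule.smul_mem _ _ ht) (Submodule.smul_mem _ _ ht'), fun k => ?_⟩
      simp only [Pi.add_apply, Pi.smul_apply, smul_eq_mul, map_add, map_mul, ← hst, ← hst']
      ring
    | smul r y _ hy =>
      obtain ⟨s, hs, t, ht, hst⟩ := hy
      obtain ⟨⟨p, q⟩, hpq⟩ := IsLocalization.surj m.primeCompl r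
      refine ⟨q * s, mul_mem q.2 hs, p • t, Submodule.smul_mem _ _ ht, fun k => ?_⟩
      simp only [Pi.smul_apply, smul_eq_mul, map_mul, ← hst, ← hpq]
      ring
  obtain ⟨s, hs, t, ht, hst⟩ := key _ h1
  choose u hu using fun i => (IsLocalization.eq_iff_exists m.primeCompl L).1
    (show algebraMap R L (s * a i) = algebraMap R L (t i) by rw [map_mul]; exact hst i)
  let w : R := ∏ i, (u i : R)
  have hw : w * s ∈ m.primeCompl := mul_mem (prod_mem fun i _ => (u i).2) hs
  refine hw (hle (Submodule.mem_colon_singleton.2 ?_))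
  have he : (w * s) • a = w • t := by
    funext k
    obtain ⟨v, hv⟩ : (u k : R) ∣ w := Finset.dvd_prod_of_mem _ (Finset.mem_univ k)
    simp only [Pi.smul_apply, smul_eq_mul, hv]
    linear_combination v * hu k
  rw [he]
  exact Submodule.smul_mem _ _ ht

variable {A B : Type u} [CommRing A] [CommRing B] [Algebra A B]

/-- H₁-regularity descends along faithfully flat maps. -/
theorem isH1Regular_of_faithfullyFlat [Module.FaithfullyFlat A B] {c : ℕ} {f : Fin c → A}
    (h : CAlgX.IsH1Regular fun i => algebraMap A B (f i)) : CAlgX.IsH1Regular f := by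
  classical
  intro a ha
  have h1 := h (fun i => algebraMap A B (a i)) (by simp only [← map_mul, ← map_sum, ha, map_zero])
  let E : B ⊗[A] (Fin c → A) ≃ₗ[B] (Fin c → B) := TensorProduct.piScalarRight A B B (Fin c)
  have hE : ∀ (v : Fin c → A), E (1 ⊗ₜ v) = fun i => algebraMap A B (v i) := fun v => funext fun i => by
    simp [E, Algebra.smul_def]
  let q := (triv f).mkQ
  let G : (Fin c → B) →ₗ[B] B ⊗[A] ((Fin c → A) ⧸ triv f) := q.baseChange B ∘ₗ E.symm.toLinearMap
  have hG : ∀ v : Fin c → A, G (fun i => algebraMap A B (v i)) = 1 ⊗ₜ q v := fun v => by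
    show q.baseChange B (E.symm _) = _
    rw [← hE, LinearEquiv.symm_apply_apply, LinearMap.baseChange_tmul]
  have h2 : G (fun i => algebraMap A B (a i)) = 0 := by
    refine (Submodule.span_le (p := LinearMap.ker G)).2 ?_ h1
    rintro _ ⟨i, j, rfl⟩
    have : Pi.single i (algebraMap A B (f j)) - Pi.single j (algebraMap A B (f i)) =
        fun k => algebraMap A B ((Pi.single i (f j) - Pi.single j (f i) : Fin c → A) k) := funext fun k => by
      simp only [Pi.sub_apply, map_sub, Pi.single_apply, apply_ite (algebraMap A B), map_zero]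
    rw [SetLike.mem_coe, LinearMap.mem_ker, this, hG, Submodule.mkQ_apply,
      (Submodule.Quotient.mk_eq_zero (triv f)).2 (Submodule.subset_span ⟨i, j, rfl⟩), TensorProduct.tmul_zero]
  rw [hG] at h2
  exact (Submodule.Quotient.mk_eq_zero _).1
    (Module.FaithfullyFlat.tensorProduct_mk_injective (A := A) (B := B) _ (h2.trans (TensorProduct.tmul_zero _ _).symm))

/-- An ideal is regular of kind `k`: near each prime containing it, it is generated by a sequence of kind `k`. -/
def Gen (k : RegImm.Kind) (I : Ideal A) : Prop :=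
  ∀ (P : Ideal A) [P.IsPrime], I ≤ P → ∃ g : A, g ∉ P ∧ ∃ rs : List (Localization.Away g),
    k.Seq (Localization.Away g) rs ∧ I.map (algebraMap A (Localization.Away g)) = Ideal.ofList rs

theorem gen_koszul_iff {I : Ideal A} : Gen .koszul I ↔ LCI.IsKoszulRegularIdeal I :=
  ⟨fun h p hp => h p.asIdeal hp, fun h P _ hP => h ⟨P, inferInstance⟩ hP⟩

theorem gen_quasi_iff {I : Ideal A} : Gen .quasi I ↔ PP16.IsLocallyQuasiRegular A I := by
  refine ⟨fun h P _ hP => ?_, fun h P _ hP => ?_⟩
  · obtain ⟨g, hg, rs, hrs, hI⟩ := h P hP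
    exact ⟨g, hg, rs.length, rs.get, hrs, (range_get rs).trans hI.symm⟩
  · obtain ⟨g, hg, r, f, hf, hI⟩ := h P hP
    refine ⟨g, hg, List.ofFn f, (Groth.Agent.RelDivLib.seq_ofFn .quasi (Or.inr rfl) f).2 hf, ?_⟩
    rw [Groth.Agent.RegIdealLib.ofList_ofFn, hI]

theorem gen_quasi_of_h1 {I : Ideal A} (h : Gen .h1 I) : Gen .quasi I := fun P _ hP => by
  obtain ⟨g, hg, rs, hrs, hI⟩ := h P hP
  exact ⟨g, hg, rs, Groth.Agent.RelDivLib.isQuasiRegular_of_isH1Regular hrs, hI⟩

/-- Faithfully flat descent of H₁-regular ideals. -/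
theorem gen_h1_descent [Module.FaithfullyFlat A B] {I : Ideal A} (h : Gen .h1 (I.map (algebraMap A B))) :
    Gen .h1 I := by
  classical
  have hq : Gen .quasi I :=
    gen_quasi_iff.2 (Groth.Agent.QRegDescLib.isLocallyQuasiRegular I (gen_quasi_iff.1 (gen_quasi_of_h1 h)))
  intro P _ hP
  obtain ⟨g, hg, rs, hrs, hI⟩ := hq P hP
  refine ⟨g, hg, rs, ?_, hI⟩
  let Ag := Localization.Away g
  refine isH1Regular_of_localization (f := rs.get) fun m _ => ?_
  let p := m.comap (algebraMap A Ag)
  have hgp : g ∉ p := fun hgp => Ideal.IsPrime.ne_top ‹m.IsMaximal›.isPrime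
    (Ideal.eq_top_of_isUnit_mem _ hgp (IsLocalization.Away.algebraMap_isUnit g))
  obtain ⟨q', hq'⟩ := PrimeSpectrum.comap_surjective_of_faithfullyFlat (B := B) ⟨p, inferInstance⟩
  let Q := q'.asIdeal
  have hQp : p = Q.comap (algebraMap A B) := congrArg PrimeSpectrum.asIdeal hq'.symm
  let L' := Localization.AtPrime Q
  haveI : Module.Flat B L' := IsLocalization.flat _ Q.primeCompl
  haveI : Module.Flat A L' := Module.Flat.trans A B L'
  let ψ : Ag →+* L' := IsLocalization.Away.lift (S := Ag) g (g := algebraMap A L') (by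
    rw [IsScalarTower.algebraMap_apply A B L']
    exact IsLocalization.map_units L' (⟨algebraMap A B g, fun hm => hgp (hQp.symm ▸ hm)⟩ : Q.primeCompl))
  letI : Algebra Ag L' := ψ.toAlgebra
  haveI : IsScalarTower A Ag L' := .of_algebraMap_eq fun x => (IsLocalization.Away.lift_eq g _ x).symm
  haveI : Module.Flat Ag L' := (Module.flat_iff_of_isLocalization Ag (Submonoid.powers g) L').2 inferInstance
  have hm : (IsLocalRing.maximalIdeal L').comap ψ = m := by
    rw [← IsLocalization.map_under (Submonoid.powers g) Ag m,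
      ← IsLocalization.map_under (Submonoid.powers g) Ag ((IsLocalRing.maximalIdeal L').comap ψ)]
    congr 1
    change _ = p
    simp only [Ideal.under]
    rw [hQp, Ideal.comap_comap, ← RingHom.algebraMap_toAlgebra ψ, ← IsScalarTower.algebraMap_eq,
      IsScalarTower.algebraMap_eq A B L', ← Ideal.comap_comap]
    exact congrArg (Ideal.comap (algebraMap A B)) Localization.AtPrime.under_maximalIdeal
  let L := Localization.AtPrime m
  have hunit : ∀ s : m.primeCompl, IsUnit (ψ s) := fun s => by
    refine Classical.byContradiction fun hs => s.2 ?_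
    have : (s : Ag) ∈ (IsLocalRing.maximalIdeal L').comap ψ := (IsLocalRing.mem_maximalIdeal _).2 hs
    rwa [hm] at this
  let χ : L →+* L' := IsLocalization.lift (M := m.primeCompl) (S := L) (g := ψ) hunit
  letI : Algebra L L' := χ.toAlgebra
  haveI : IsScalarTower Ag L L' := .of_algebraMap_eq fun x => (IsLocalization.lift_eq _ x).symm
  haveI : Module.Flat L L' := (Module.flat_iff_of_isLocalization L m.primeCompl L').2 inferInstance
  haveI : IsLocalHom (algebraMap L L') := ⟨fun x hx => by
    obtain ⟨⟨a, s⟩, has⟩ := IsLocalization.surj m.primeCompl x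
    have hu : IsUnit (ψ a) := by
      have := congrArg (algebraMap L L') has
      rw [map_mul, ← IsScalarTower.algebraMap_apply, ← IsScalarTower.algebraMap_apply] at this
      rw [← RingHom.algebraMap_toAlgebra ψ, ← this]
      refine hx.mul ?_
      rw [IsScalarTower.algebraMap_apply Ag L L']
      exact (IsLocalization.map_units L s).map _
    have ha : a ∈ m.primeCompl := fun ham => by
      rw [← hm] at ham
      exact (IsLocalRing.mem_maximalIdeal _).1 ham hu
    exact isUnit_of_mul_isUnit_left (has ▸ IsLocalization.map_units L (⟨a, ha⟩ : m.primeCompl))⟩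
  haveI : Module.FaithfullyFlat L L' := .of_flat_of_isLocalHom
  refine isH1Regular_of_faithfullyFlat (A := L) (B := L') ?_
  have hf : (fun i => algebraMap L L' (algebraMap Ag L (rs.get i))) = fun i => algebraMap Ag L' (rs.get i) :=
    funext fun i => (IsScalarTower.algebraMap_apply Ag L L' _).symm
  rw [hf]
  have hspan : Ideal.span (Set.range fun i => algebraMap Ag L' (rs.get i)) = I.map (algebraMap A L') := by
    rw [show (fun i => algebraMap Ag L' (rs.get i)) = algebraMap Ag L' ∘ rs.get from rfl, Set.range_comp,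
      ← Ideal.map_span, range_get, ← hI, Ideal.map_map, ← IsScalarTower.algebraMap_eq]
  by_cases hIQ : I.map (algebraMap A B) ≤ Q
  · obtain ⟨g', hg', rs', hrs', hI'⟩ := h Q hIQ
    let Bg := Localization.Away g'
    let ψ' : Bg →+* L' := IsLocalization.Away.lift (S := Bg) g' (g := algebraMap B L')
      (IsLocalization.map_units L' (⟨g', hg'⟩ : Q.primeCompl))
    letI : Algebra Bg L' := ψ'.toAlgebra
    haveI : IsScalarTower B Bg L' := .of_algebraMap_eq fun x => (IsLocalization.Away.lift_eq g' _ x).symm
    haveI : Module.Flat Bg L' := (Module.flat_iff_of_isLocalization Bg (Submonoid.powers g') L').2 inferInstance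
    refine isH1Regular_of_span_eq (f' := fun i => algebraMap Bg L' (rs'.get i))
      (Groth.Agent.RelDivLib.isQuasiRegular_flat (S := L') hrs)
      (Groth.Agent.RelDivLib.isH1Regular_flat (S := L') hrs') ?_
    rw [hspan, show (fun i => algebraMap Bg L' (rs'.get i)) = algebraMap Bg L' ∘ rs'.get from rfl,
      Set.range_comp, ← Ideal.map_span, range_get, ← hI', Ideal.map_map, Ideal.map_map,
      ← IsScalarTower.algebraMap_eq, ← IsScalarTower.algebraMap_eq]
  · refine isH1Regular_of_span_eq_top ?_
    obtain ⟨x, hx, hxQ⟩ := SetLike.not_le_iff_exists.1 hIQ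
    rw [hspan, IsScalarTower.algebraMap_eq A B L', ← Ideal.map_map]
    exact Ideal.eq_top_of_isUnit_mem _ (Ideal.mem_map_of_mem _ hx)
      (IsLocalization.map_units L' (⟨x, hxQ⟩ : Q.primeCompl))

/-- Faithfully flat descent for all kinds but plain regularity. -/
theorem gen_descent [Module.FaithfullyFlat A B] (k : RegImm.Kind) (hk : k ≠ RegImm.Kind.regular) {I : Ideal A}
    (h : Gen k (I.map (algebraMap A B))) : Gen k I :=
  match k, hk, h with
  | .koszul, _, h => gen_koszul_iff.2 (Groth.Agent.CILib.isKoszulRegularIdeal_of_faithfullyFlat (gen_koszul_iff.1 h))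
  | .h1, _, h => gen_h1_descent h
  | .quasi, _, h => gen_quasi_iff.2 (Groth.Agent.QRegDescLib.isLocallyQuasiRegular I (gen_quasi_iff.1 h))

end Groth.Agent.RegKindDescLib
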