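import Mathlib
import Groth.Agent.RegKindDescLib.Ring
import Groth.Agent.CILib.KoszulScheme
import Groth.Agent.RelDivLib.FlatBC
import Groth.Agent.S8906

/-!
# fpqc descent of regular immersions
-/

set_option autoImplicit false
set_option linter.style.haveILetI false
set_option backward.isDefEq.respectTransparency false

universe u

open CategoryTheory CategoryTheory.Limits AlgebraicGeometry Groth.Agent

noncomputable section

namespace Groth.Agent.RegKindDescLib

variable {Z X : Scheme.{u}}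

/-- Over opens inside the coborder range an immersion restricts to a closed immersion. -/
theorem isClosedImmersion_restrict (i : Z ⟶ X) [IsImmersion i] (V : X.Opens) (hV : V ≤ i.coborderRange) :
    IsClosedImmersion (i ∣_ V) := by
  let O := i.coborderRange
  have h1 : IsClosedImmersion i.liftCoborder := inferInstance
  have h2 : i ∣_ O = (Z.isoOfEq (U := i ⁻¹ᵁ O) (V := ⊤) (by
    ext x; simp only [TopologicalSpace.Opens.coe_top, Set.mem_univ, iff_true]
    exact subset_coborder ⟨x, rfl⟩)).hom ≫ Z.topIso.hom ≫ i.liftCoborder := by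
    rw [← cancel_mono O.ι, morphismRestrict_ι]
    simp [i.liftCoborder_ι, O]
  have h3 : IsClosedImmersion (i ∣_ O) := by rw [h2]; infer_instance
  exact IsZariskiLocalAtTarget.of_iSup_eq_top (P := @IsClosedImmersion) (fun _ : Unit => ⊤) (by simp)
    (fun _ => by
      have := IsZariskiLocalAtTarget.restrict h3 (O.ι ⁻¹ᵁ V)
      have e := morphismRestrictRestrict i O (O.ι ⁻¹ᵁ V)
      have hVV : O.ι ''ᵁ O.ι ⁻¹ᵁ V = V := by
        rw [Scheme.Hom.image_preimage_eq_opensRange_inf, Scheme.Opens.opensRange_ι, inf_eq_right.2 hV]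
      have := (MorphismProperty.arrow_mk_iso_iff @IsClosedImmersion
        (e ≪≫ morphismRestrictEq i hVV)).1 this
      exact IsZariskiLocalAtTarget.restrict this _)

theorem mem_basicOpen_iff {W : X.Opens} (hW : IsAffineOpen W) (x : W) (a : Γ(X, W)) :
    a ∉ (hW.primeIdealOf x).asIdeal ↔ (x : X) ∈ X.basicOpen a := by
  have h := hW.fromSpec_primeIdealOf x
  constructor
  · intro ha
    rw [← h]
    exact (hW.fromSpec_preimage_basicOpen a).ge ha
  · intro ha
    rw [← h] at ha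
    exact (hW.fromSpec_preimage_basicOpen a).le ha

theorem primeIdealOf_fromSpec {W : X.Opens} (hW : IsAffineOpen W) (p : Spec Γ(X, W)) (h : hW.fromSpec p ∈ W) :
    hW.primeIdealOf ⟨hW.fromSpec p, h⟩ = p :=
  hW.fromSpec.isOpenEmbedding.injective (hW.fromSpec_primeIdealOf _)

/-- The ring-level condition for a regular immersion which is closed over an affine open. -/
theorem gen_of_isRegularImmersion (k : RegImm.Kind) (hk : k ≠ RegImm.Kind.regular) (i : Z ⟶ X)
    (hi : ∀ z : Z, RegImm.IsRegularImmersionAt k i z) {W : X.Opens} (hW : IsAffineOpen W)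
    (hc : IsClosedImmersion (i ∣_ W)) : Gen k (RingHom.ker (i.app W).hom) := by
  obtain ⟨haff, hs⟩ := RegIdealLib.affine_and_surjective i hW hc
  intro Q _ hQ
  -- the point of `Z` over `Q`
  haveI hq : (Q.map (i.app W).hom).IsPrime := Ideal.map_isPrime_of_surjective hs hQ
  let q : Spec Γ(Z, i ⁻¹ᵁ W) := ⟨Q.map (i.app W).hom, hq⟩
  have hqQ : (Spec.map (i.app W)) q = ⟨Q, inferInstance⟩ := PrimeSpectrum.ext (by
    show (Q.map (i.app W).hom).comap (i.app W).hom = Q
    rw [Ideal.comap_map_of_surjective _ hs, ← RingHom.ker_eq_comap_bot, sup_eq_left.2 hQ])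
  let z := haff.fromSpec q
  have hz : i z = hW.fromSpec ⟨Q, inferInstance⟩ := by
    rw [← hqQ, ← Scheme.Hom.comp_apply, ← Scheme.Hom.comp_apply, Scheme.Hom.app_eq_appLE,
      hW.SpecMap_appLE_fromSpec i haff le_rfl]
  have hzW : i z ∈ W := by
    rw [hz, ← SetLike.mem_coe, ← hW.range_fromSpec]
    exact ⟨_, rfl⟩
  obtain ⟨U, hzU, hcU, rs, hrs, hker⟩ := hi z
  obtain ⟨t, htU, hzt⟩ := hW.exists_basicOpen_le (V := U.1) ⟨i z, hzU⟩ hzW
  have htQ : t ∉ Q := by
    have h0 := primeIdealOf_fromSpec hW ⟨Q, inferInstance⟩ (hz ▸ hzW)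
    have := (mem_basicOpen_iff hW ⟨hW.fromSpec ⟨Q, inferInstance⟩, hz ▸ hzW⟩ t).2
      (show hW.fromSpec ⟨Q, inferInstance⟩ ∈ X.basicOpen t by rw [← hz]; exact hzt)
    rwa [h0] at this
  have hsq : IsPullback (𝟙 Z) i i (𝟙 X) := IsPullback.of_horiz_isIso ⟨by simp⟩
  have hV := hW.basicOpen t
  obtain ⟨-, hKW⟩ := RelDivLib.closed_and_ker_pullback hsq hW hc hV (show X.basicOpen t ≤ (𝟙 X) ⁻¹ᵁ W from X.basicOpen_le t)
  obtain ⟨-, hKU⟩ := RelDivLib.closed_and_ker_pullback hsq U.2 hcU hV (show X.basicOpen t ≤ (𝟙 X) ⁻¹ᵁ U.1 from htU)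
  let ρ := ((𝟙 X : X ⟶ X).appLE U.1 (X.basicOpen t) htU).hom
  have hρ : ρ.Flat := HasRingHomProperty.appLE (P := @Flat) (𝟙 X) inferInstance U ⟨_, hV⟩ htU
  have hseq : k.Seq Γ(X, X.basicOpen t) (rs.map ρ) := RelDivLib.seq_flat ρ hρ k hk hrs
  letI : Algebra Γ(X, W) Γ(X, X.basicOpen t) := ((𝟙 X : X ⟶ X).appLE W (X.basicOpen t) (X.basicOpen_le t)).hom.toAlgebra
  haveI : IsLocalization.Away t Γ(X, X.basicOpen t) := by
    have h1 := hW.isLocalization_basicOpen t
    convert h1 using 2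
  let e : Γ(X, X.basicOpen t) ≃ₐ[Γ(X, W)] Localization.Away t :=
    IsLocalization.algEquiv (Submonoid.powers t) _ _
  have he : (e : Γ(X, X.basicOpen t) →+* Localization.Away t).Flat := RingHom.Flat.of_bijective e.bijective
  refine ⟨t, htQ, (rs.map ρ).map (e : Γ(X, X.basicOpen t) →+* Localization.Away t),
    RelDivLib.seq_flat _ he k hk hseq, ?_⟩
  rw [← Ideal.map_ofList, ← Ideal.map_ofList, ← hker, ← hKU, hKW,
    ← RingHom.algebraMap_toAlgebra ((𝟙 X : X ⟶ X).appLE W (X.basicOpen t) (X.basicOpen_le t)).hom, Ideal.map_map]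
  congr 1
  exact RingHom.ext fun a => (e.commutes a).symm

/-- A closed immersion over an affine open with regular ideal is regular at the points there. -/
theorem isRegularImmersionAt_of_gen (k : RegImm.Kind) (hk : k ≠ RegImm.Kind.regular) (i : Z ⟶ X) [IsImmersion i]
    {W : X.Opens} (hW : IsAffineOpen W) (hWO : W ≤ i.coborderRange) (hK : Gen k (RingHom.ker (i.app W).hom))
    (z : Z) (hzW : i z ∈ W) : RegImm.IsRegularImmersionAt k i z := by
  obtain ⟨haff, -⟩ := RegIdealLib.affine_and_surjective i hW (isClosedImmersion_restrict i W hWO)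
  have hle : RingHom.ker (i.app W).hom ≤ (hW.primeIdealOf ⟨i z, hzW⟩).asIdeal := by
    intro a ha
    by_contra hna
    have hz : z ∈ Z.basicOpen ((i.app W).hom a) := by
      rw [← i.preimage_basicOpen]
      exact (mem_basicOpen_iff hW ⟨i z, hzW⟩ a).1 hna
    rw [RingHom.mem_ker.1 ha, Scheme.basicOpen_zero] at hz
    exact hz
  obtain ⟨g, hg, rs, hrs, hgen⟩ := hK _ hle
  refine ⟨⟨X.basicOpen g, hW.basicOpen g⟩, (mem_basicOpen_iff hW ⟨i z, hzW⟩ g).1 hg,
    isClosedImmersion_restrict i _ ((X.basicOpen_le g).trans hWO), ?_⟩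
  letI : Algebra Γ(X, W) Γ(X, X.basicOpen g) := (X.presheaf.map (homOfLE (X.basicOpen_le g)).op).hom.toAlgebra
  haveI : IsLocalization.Away g Γ(X, X.basicOpen g) :=
    hW.isLocalization_of_eq_basicOpen g (homOfLE (X.basicOpen_le g)) rfl
  letI : Algebra Γ(Z, i ⁻¹ᵁ W) Γ(Z, i ⁻¹ᵁ X.basicOpen g) :=
    (Z.presheaf.map (homOfLE (i.preimage_mono (X.basicOpen_le g))).op).hom.toAlgebra
  haveI : IsLocalization.Away ((i.app W).hom g) Γ(Z, i ⁻¹ᵁ X.basicOpen g) :=
    haff.isLocalization_of_eq_basicOpen _ (homOfLE (i.preimage_mono (X.basicOpen_le g))) (i.preimage_basicOpen g)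
  let e : Localization.Away g ≃ₐ[Γ(X, W)] Γ(X, X.basicOpen g) :=
    IsLocalization.algEquiv (Submonoid.powers g) _ _
  have he : (e : Localization.Away g →+* Γ(X, X.basicOpen g)).Flat := RingHom.Flat.of_bijective e.bijective
  refine ⟨rs.map (e : Localization.Away g →+* Γ(X, X.basicOpen g)), RelDivLib.seq_flat _ he k hk hrs, ?_⟩
  rw [CILib.ker_map_away g (i.app W).hom (i.app (X.basicOpen g)).hom ?_, ← Ideal.map_ofList, ← hgen, Ideal.map_map]
  · congr 1
    exact RingHom.ext fun a => (e.commutes a).symm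
  · rw [RingHom.algebraMap_toAlgebra, RingHom.algebraMap_toAlgebra, ← CommRingCat.hom_comp, ← CommRingCat.hom_comp]
    exact congrArg CommRingCat.Hom.hom (i.naturality (homOfLE (X.basicOpen_le g)).op)

/-- fpqc descent. -/
theorem isRegularImmersion_descent {X' : Scheme.{u}} (i : Z ⟶ X) [IsImmersion i] (g : X' ⟶ X) [Flat g] [Surjective g]
    [QuasiCompact g] (k : RegImm.Kind) (hk : k ≠ RegImm.Kind.regular)
    (h : RegImm.IsRegularImmersion k (pullback.snd i g)) : RegImm.IsRegularImmersion k i := by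
  refine ⟨inferInstance, fun z => ?_⟩
  obtain ⟨_, ⟨W, hW, rfl⟩, hzW, hWO⟩ :=
    X.isBasis_affineOpens.exists_subset_of_mem_open (subset_coborder ⟨z, rfl⟩ : i z ∈ (i.coborderRange : Set X))
      i.coborderRange.2
  refine isRegularImmersionAt_of_gen k hk i hW hWO ?_ z hzW
  have hcW := isClosedImmersion_restrict i W hWO
  -- an affine cover of the preimage
  obtain ⟨S, hSf, hS⟩ := isCompact_and_isOpen_iff_finite_and_eq_biUnion_affineOpens.1
    ⟨QuasiCompact.isCompact_preimage (f := g) (W : Set X) W.2 hW.isCompact, (g ⁻¹ᵁ W).2⟩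
  haveI := hSf.to_subtype
  let T : Scheme.{u} := ∐ fun V : S => (V.1.1 : Scheme.{u})
  haveI : ∀ V : S, IsAffine (V.1.1 : Scheme.{u}) := fun V => V.1.2
  let σ : T ⟶ X' := Sigma.desc fun V : S => V.1.1.ι
  haveI : Flat σ := IsZariskiLocalAtSource.sigmaDesc fun V => inferInstance
  have hle : (⊤ : T.Opens) ≤ (σ ≫ g) ⁻¹ᵁ W := by
    intro y _
    obtain ⟨V, v, rfl⟩ := (sigmaOpenCover fun V : S => (V.1.1 : Scheme.{u})).exists_eq y
    show (σ ≫ g) ((Sigma.ι (fun V : S => (V.1.1 : Scheme.{u})) V) v) ∈ W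
    rw [← Scheme.Hom.comp_apply, ← Category.assoc, Sigma.ι_desc, Scheme.Hom.comp_apply]
    exact hS.ge (Set.mem_biUnion V.2 v.2)
  have hT := isAffineOpen_top T
  let φ := ((σ ≫ g).appLE W ⊤ hle).hom
  letI : Algebra Γ(X, W) Γ(T, ⊤) := φ.toAlgebra
  haveI : Module.Flat Γ(X, W) Γ(T, ⊤) :=
    HasRingHomProperty.appLE (P := @Flat) (σ ≫ g) inferInstance ⟨W, hW⟩ ⟨⊤, hT⟩ hle
  haveI : Module.FaithfullyFlat Γ(X, W) Γ(T, ⊤) := by
    refine .of_comap_surjective fun p => ?_
    obtain ⟨x', hx'⟩ := g.surjective (hW.fromSpec p)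
    have hxW : hW.fromSpec p ∈ W := by
      rw [← SetLike.mem_coe, ← hW.range_fromSpec]
      exact ⟨p, rfl⟩
    have hx'W : x' ∈ (g ⁻¹ᵁ W : X'.Opens) := by
      show g x' ∈ W
      rwa [hx']
    obtain ⟨V, hV, hx'V⟩ := Set.mem_iUnion₂.1 (hS.le hx'W)
    let y : T := Sigma.ι (fun V : S => (V.1.1 : Scheme.{u})) ⟨V, hV⟩ ⟨x', hx'V⟩
    refine ⟨hT.primeIdealOf ⟨y, trivial⟩, hW.fromSpec.isOpenEmbedding.injective ?_⟩
    show hW.fromSpec ((Spec.map ((σ ≫ g).appLE W ⊤ hle)) _) = _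
    rw [← Scheme.Hom.comp_apply, hW.SpecMap_appLE_fromSpec (σ ≫ g) hT hle, Scheme.Hom.comp_apply,
      hT.fromSpec_primeIdealOf, ← hx']
    show (Sigma.ι (fun V : S => (V.1.1 : Scheme.{u})) ⟨V, hV⟩ ≫ σ ≫ g) _ = g x'
    rw [Sigma.ι_desc_assoc]
    rfl
  -- the pulled back immersion
  have hP := (IsPullback.of_hasPullback (pullback.snd i g) σ).paste_horiz (IsPullback.of_hasPullback i g)
  have hreg := Groth.Agent.S8906.result (pullback.snd i g) k h σ
  obtain ⟨hcT, hker⟩ := RelDivLib.closed_and_ker_pullback hP hW hcW hT hle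
  have hG := gen_of_isRegularImmersion k hk (pullback.snd (pullback.snd i g) σ) hreg.2 hT hcT
  rw [hker] at hG
  exact gen_descent (B := Γ(T, ⊤)) k hk hG

end Groth.Agent.RegKindDescLib
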